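import Mathlib
import Groth.Agent.Lib.Serre.Regular

/-!
Finite subcomodules of a flat Hopf algebra over a regular ring of dimension at most two, and the
matrix corepresentation on the (projective) dual of such a subcomodule.
-/

set_option autoImplicit false
universe u

open TensorProduct CategoryTheory
open scoped Coalgebra

namespace GrothLib.HopfUnion4

variable (R : Type u) [CommRing R]

theorem pdLE_two [IsRegularRing R] (hdim : ringKrullDim R ≤ 2) (M : Type u) [AddCommGroup M]
    [Module R M] [Module.Finite R M] : Serre.PdLE R M 2 := by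
  refine ((ModuleCat.of R M).hasProjectiveDimensionLE_iff_forall_maximalSpectrum 2).2 fun m => ?_
  haveI : IsRegularLocalRing (Localization.AtPrime m.1) :=
    IsRegularRing.isRegularLocalRing_localization m.1
  have hle : ringKrullDim (Localization.AtPrime m.1) ≤ 2 := by
    refine le_trans ?_ hdim
    rw [IsLocalization.AtPrime.ringKrullDim_eq_height m.1 (Localization.AtPrime m.1)]
    exact Ideal.height_le_ringKrullDim_of_ne_top m.2.ne_top
  obtain ⟨d, hd⟩ : ∃ d : ℕ, ringKrullDim (Localization.AtPrime m.1) = d :=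
    ⟨_, (IsRegularLocalRing.spanFinrank_maximalIdeal (R := Localization.AtPrime m.1)).symm⟩
  have hd2 : d ≤ 2 := by
    rw [hd] at hle
    exact_mod_cast hle
  exact Serre.pdLE_mono hd2 (Serre.pdLE_of_isRegularLocalRing (Localization.AtPrime m.1) d hd
    ((ModuleCat.of R M).localizedModule m.1.primeCompl))

/-- Duals of finite modules over a regular ring of dimension at most two are projective. -/
theorem projective_dual [IsRegularRing R] (hdim : ringKrullDim R ≤ 2) (W : Type u) [AddCommGroup W]
    [Module R W] [Module.Finite R W] : Module.Projective R (Module.Dual R W) := by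
  obtain ⟨k, π, hπ⟩ := Module.Finite.exists_fin' R W
  haveI : IsNoetherian R (Fin k → R) := inferInstance
  obtain ⟨l, K, hK⟩ := Module.Finite.exists_fin' R (LinearMap.ker π)
  let ψ : (Fin l → R) →ₗ[R] (Fin k → R) := (LinearMap.ker π).subtype ∘ₗ K
  have hψ : LinearMap.range ψ = LinearMap.ker π := by
    rw [LinearMap.range_comp, LinearMap.range_eq_top.2 hK, Submodule.map_top,
      Submodule.range_subtype]
  let φ : Module.Dual R (Fin k → R) →ₗ[R] Module.Dual R (Fin l → R) := ψ.dualMap
  have hr : LinearMap.range π.dualMap = LinearMap.ker φ := by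
    rw [LinearMap.range_dualMap_eq_dualAnnihilator_ker_of_surjective π hπ,
      LinearMap.ker_dualMap_eq_dualAnnihilator_range, hψ]
  have e : Module.Dual R W ≃ₗ[R] LinearMap.ker φ :=
    (LinearEquiv.ofInjective π.dualMap (LinearMap.dualMap_injective_of_surjective hπ)).trans
      (LinearEquiv.ofEq _ _ hr)
  refine Serre.pdLE_zero_iff.1 ((Serre.pdLE_congr (M := Module.Dual R W) (N := LinearMap.ker φ) e 0).2 ?_)
  have hC : Serre.PdLE R (Module.Dual R (Fin l → R) ⧸ LinearMap.range φ) 2 := pdLE_two R hdim _
  rw [Serre.pdLE_succ_iff (LinearMap.range φ).mkQ (Submodule.mkQ_surjective _)] at hC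
  have hN : Serre.PdLE R (LinearMap.range φ) 1 :=
    (Serre.pdLE_congr (LinearEquiv.ofEq _ _ (Submodule.ker_mkQ _)) _).1 hC
  rw [Serre.pdLE_succ_iff φ.rangeRestrict φ.surjective_rangeRestrict] at hN
  exact (Serre.pdLE_congr (LinearEquiv.ofEq _ _ (LinearMap.ker_rangeRestrict φ)) _).1 hN

section DualBasis

variable {W : Type u} [AddCommGroup W] [Module R W] [Module.Finite R W]
  {N : Type u} [AddCommGroup N] [Module R N] [Module.Flat R N]
  {ι : Type} [Fintype ι] (ℓ : ι → Module.Dual R W) (c : ι → Module.Dual R (Module.Dual R W))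

variable {R} in
theorem exists_expansion [IsNoetherianRing R] (hc : ∀ v, ∑ i, c i v • ℓ i = v) (g : W →ₗ[R] N) :
    ∃ n : ι → N, ∀ w, g w = ∑ i, ℓ i w • n i := by
  classical
  haveI : Module.FinitePresentation R W := Module.finitePresentation_of_finite R W
  obtain ⟨k, h₂, h₃, hg⟩ := Module.Flat.exists_factorization_of_finitePresentation g
  let h : Fin k → Module.Dual R W := fun s => Finsupp.lapply s ∘ₗ h₂
  refine ⟨fun i => ∑ s, c i (h s) • h₃ (Finsupp.single s 1), fun w => ?_⟩
  have hw : h₂ w = ∑ s, h s w • Finsupp.single s (1 : R) := by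
    ext t
    simp [h, Finsupp.single_apply]
  rw [hg, LinearMap.comp_apply, hw, map_sum]
  simp only [map_smul, Finset.smul_sum, smul_smul]
  rw [Finset.sum_comm]
  refine Finset.sum_congr rfl fun s _ => ?_
  rw [← Finset.sum_smul]
  congr 1
  calc h s w = (∑ i, c i (h s) • ℓ i) w := by rw [hc]
    _ = _ := by simp [LinearMap.sum_apply, mul_comm]

variable {R} in
theorem sum_eq_zero {n : ι → N} (h : ∀ w, ∑ i, ℓ i w • n i = 0) (d : Module.Dual R (Module.Dual R W)) :
    ∑ i, d (ℓ i) • n i = 0 := by
  classical
  have hx : Fintype.linearCombination R n ∘ₗ LinearMap.pi ℓ = 0 := by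
    ext w
    simpa [Fintype.linearCombination_apply] using h w
  obtain ⟨k, a, y, hy, ha⟩ := Module.Flat.exists_factorization_of_comp_eq_zero_of_free hx
  have e1 : ∑ i, d (ℓ i) • n i = y (a fun i => d (ℓ i)) := by
    rw [← Fintype.linearCombination_apply, hy, LinearMap.comp_apply]
  rw [e1]
  suffices a (fun i => d (ℓ i)) = 0 by rw [this, map_zero]
  ext r
  let b : ι → R := fun i => a (Pi.single i 1) r
  have hb : ∀ v : ι → R, a v r = ∑ i, v i * b i := fun v => by
    conv_lhs => rw [pi_eq_sum_univ' v]
    simp [b, Finsupp.finsetSum_apply]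
  have hz : ∑ i, b i • ℓ i = 0 := by
    ext w
    have := congrArg (fun f => f r) (LinearMap.congr_fun ha w)
    simp [hb] at this
    simpa [LinearMap.sum_apply, mul_comm] using this
  have := congrArg d hz
  simp only [map_sum, map_smul, map_zero, smul_eq_mul] at this
  rw [hb, Finsupp.zero_apply, ← this]
  exact Finset.sum_congr rfl fun i _ => mul_comm _ _

end DualBasis

variable {R} {A : Type u} [CommRing A] [HopfAlgebra R A] [Module.Flat R A]

/-- Every finite subset lies in a finite subcomodule. -/
theorem exists_subcomodule [IsNoetherianRing R] (F : Finset A) :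
    ∃ (W : Submodule R A), Module.Finite R W ∧ (↑F : Set A) ⊆ W ∧
      ∃ ρ : W →ₗ[R] W ⊗[R] A, ∀ w : W, W.subtype.rTensor A (ρ w) = Coalgebra.comul (R := R) (w : A) := by
  classical
  let N : Submodule R A :=
    Submodule.span R ↑(F.biUnion fun f => (ℛ R f).index.image (ℛ R f).left)
  haveI : Module.Finite R N := Module.Finite.iff_fg.2 (Submodule.fg_span (Finset.finite_toSet _))
  let P : Submodule R (A ⊗[R] A) := LinearMap.range (N.subtype.rTensor A)
  let q : A →ₗ[R] (A ⊗[R] A) ⧸ P := P.mkQ ∘ₗ Coalgebra.comul
  let W : Submodule R A := LinearMap.ker q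
  have hW : ∀ y : A, y ∈ W → ∃ z, N.subtype.rTensor A z = Coalgebra.comul (R := R) y := fun y hy => by
    simpa [W, q, P, Submodule.Quotient.mk_eq_zero] using hy
  have hWN : W ≤ N := by
    intro y hy
    obtain ⟨z, hz⟩ := hW y hy
    have e : TensorProduct.rid R A ((Coalgebra.counit (R := R) (A := A)).lTensor A
        (Coalgebra.comul y)) = y := by simp [Coalgebra.lTensor_counit_comul]
    rw [← hz] at e
    rw [← e]
    clear hz e
    induction z using TensorProduct.induction_on with
    | zero => simp
    | tmul n a => simpa using N.smul_mem _ n.2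
    | add a b ha hb => simpa using N.add_mem ha hb
  have key : ∀ z : N ⊗[R] A, P.mkQ.rTensor A ((TensorProduct.assoc R A A A).symm
      ((Coalgebra.comul (R := R) (A := A)).lTensor A (N.subtype.rTensor A z))) = 0 := by
    intro z
    induction z using TensorProduct.induction_on with
    | zero => simp
    | tmul n a =>
      simp only [LinearMap.rTensor_tmul, LinearMap.lTensor_tmul]
      generalize Coalgebra.comul (R := R) a = t
      induction t using TensorProduct.induction_on with
      | zero => simp
      | tmul b c =>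
        simp only [TensorProduct.assoc_symm_tmul, LinearMap.rTensor_tmul, Submodule.mkQ_apply]
        rw [(Submodule.Quotient.mk_eq_zero P).2 ⟨n ⊗ₜ b, by simp⟩, zero_tmul]
      | add a b ha hb => simp only [tmul_add, map_add, ha, hb, add_zero]
    | add a b ha hb => simp only [map_add, ha, hb, add_zero]
  have hex : Function.Exact (W.subtype.rTensor A) (q.rTensor A) :=
    Module.Flat.rTensor_exact A (LinearMap.exact_subtype_ker_map q)
  have hinj : Function.Injective (W.subtype.rTensor A) :=
    Module.Flat.rTensor_preserves_injective_linearMap _ W.injective_subtype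
  have hρ : ∀ w : W, Coalgebra.comul (R := R) (w : A) ∈ LinearMap.range (W.subtype.rTensor A) := by
    intro w
    obtain ⟨z, hz⟩ := hW w w.2
    refine LinearMap.mem_range.2 ((hex _).1 ?_)
    rw [LinearMap.rTensor_comp, LinearMap.comp_apply, ← Coalgebra.coassoc_symm_apply, ← hz]
    exact key z
  refine ⟨W, Module.Finite.iff_fg.2 ((Module.Finite.iff_fg.1 ‹_›).of_le hWN), fun f hf => ?_,
    (LinearEquiv.ofInjective _ hinj).symm.toLinearMap ∘ₗ
      LinearMap.codRestrict _ (Coalgebra.comul ∘ₗ W.subtype) hρ, fun w => ?_⟩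
  · have : Coalgebra.comul (R := R) f ∈ P := by
      rw [← (ℛ R f).eq]
      refine Submodule.sum_mem _ fun i hi => ⟨⟨_, Submodule.subset_span
        (Finset.mem_biUnion.2 ⟨f, hf, Finset.mem_image.2 ⟨i, hi, rfl⟩⟩)⟩ ⊗ₜ (ℛ R f).right i, by simp⟩
    simpa [W, q, Submodule.Quotient.mk_eq_zero] using this
  · simp only [LinearMap.comp_apply, LinearEquiv.coe_coe]
    exact congrArg Subtype.val ((LinearEquiv.ofInjective _ hinj).apply_symm_apply _)

section Comodule

variable {W : Submodule R A} (ρ : W →ₗ[R] W ⊗[R] A)
  (hρ : ∀ w : W, W.subtype.rTensor A (ρ w) = Coalgebra.comul (R := R) (w : A))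

/-- The matrix coefficient of a functional on `W`. -/
noncomputable def coef (l : Module.Dual R W) : W →ₗ[R] A :=
  (TensorProduct.lid R A).toLinearMap ∘ₗ l.rTensor A ∘ₗ ρ

include hρ

theorem rho_coassoc (w : W) :
    ρ.rTensor A (ρ w) = (TensorProduct.assoc R W A A).symm
      ((Coalgebra.comul (R := R) (A := A)).lTensor W (ρ w)) := by
  have h1 : Function.Injective (W.subtype.rTensor A) :=
    Module.Flat.rTensor_preserves_injective_linearMap _ W.injective_subtype
  have h2 : Function.Injective ((W.subtype.rTensor A).rTensor A) :=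
    Module.Flat.rTensor_preserves_injective_linearMap _ h1
  apply h2
  have e : W.subtype.rTensor A ∘ₗ ρ = Coalgebra.comul ∘ₗ W.subtype := LinearMap.ext hρ
  rw [← LinearMap.rTensor_comp_apply, e, LinearMap.rTensor_comp_apply, hρ,
    ← Coalgebra.coassoc_symm_apply, ← hρ]
  generalize ρ w = z
  induction z using TensorProduct.induction_on with
  | zero => simp
  | tmul v a =>
    simp only [LinearMap.rTensor_tmul, LinearMap.lTensor_tmul]
    generalize Coalgebra.comul (R := R) a = t
    induction t using TensorProduct.induction_on with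
    | zero => simp
    | tmul b c => simp
    | add a b ha hb => simp only [tmul_add, map_add, ha, hb]
  | add a b ha hb => simp only [map_add, ha, hb]

theorem comul_coef (l : Module.Dual R W) (w : W) :
    Coalgebra.comul (R := R) (coef ρ l w) = (coef ρ l).rTensor A (ρ w) := by
  have e : ∀ z : W ⊗[R] A, Coalgebra.comul (R := R) (TensorProduct.lid R A (l.rTensor A z)) =
      ((TensorProduct.lid R A).toLinearMap ∘ₗ l.rTensor A).rTensor A
        ((TensorProduct.assoc R W A A).symm ((Coalgebra.comul (R := R) (A := A)).lTensor W z)) := by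
    intro z
    induction z using TensorProduct.induction_on with
    | zero => simp
    | tmul v a =>
      simp only [LinearMap.rTensor_tmul, LinearMap.lTensor_tmul, TensorProduct.lid_tmul, map_smul]
      generalize Coalgebra.comul (R := R) a = t
      induction t using TensorProduct.induction_on with
      | zero => simp
      | tmul b c => simp [TensorProduct.smul_tmul']
      | add a b ha hb => simp only [tmul_add, map_add, smul_add, ha, hb]
    | add a b ha hb => simp only [map_add, ha, hb]
  rw [coef, LinearMap.comp_apply, LinearMap.comp_apply, LinearEquiv.coe_coe, e, ← rho_coassoc ρ hρ,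
    ← LinearMap.rTensor_comp_apply]
  rfl

theorem counit_coef (l : Module.Dual R W) (w : W) :
    Coalgebra.counit (R := R) (coef ρ l w) = l w := by
  have e1 : ∀ z : W ⊗[R] A, Coalgebra.counit (R := R) (TensorProduct.lid R A (l.rTensor A z)) =
      l (TensorProduct.rid R W ((Coalgebra.counit (R := R) (A := A)).lTensor W z)) := by
    intro z
    induction z using TensorProduct.induction_on with
    | zero => simp
    | tmul v a => simp [mul_comm]
    | add a b ha hb => simp only [map_add, ha, hb]
  have e2 : ∀ z : W ⊗[R] A,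
      ((TensorProduct.rid R W ((Coalgebra.counit (R := R) (A := A)).lTensor W z) : W) : A) =
      TensorProduct.rid R A ((Coalgebra.counit (R := R) (A := A)).lTensor A (W.subtype.rTensor A z)) := by
    intro z
    induction z using TensorProduct.induction_on with
    | zero => simp
    | tmul v a => simp
    | add a b ha hb => simp only [map_add, Submodule.coe_add, ha, hb]
  rw [coef, LinearMap.comp_apply, LinearMap.comp_apply, LinearEquiv.coe_coe, e1]
  congr 1
  apply Subtype.ext
  rw [e2, hρ, Coalgebra.lTensor_counit_comul, TensorProduct.rid_tmul, one_smul]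

theorem coef_counit (w : W) : coef ρ (Coalgebra.counit ∘ₗ W.subtype) w = (w : A) := by
  rw [coef, LinearMap.comp_apply, LinearMap.comp_apply, LinearEquiv.coe_coe,
    LinearMap.rTensor_comp_apply, hρ, Coalgebra.rTensor_counit_comul, TensorProduct.lid_tmul,
    one_smul]

omit [Module.Flat R A] hρ in
theorem coef_sum {ι : Type} [Fintype ι] (ℓ : ι → Module.Dual R W) (r : ι → R) (w : W) :
    coef ρ (∑ i, r i • ℓ i) w = ∑ i, r i • coef ρ (ℓ i) w := by
  simp [coef, ← LinearMap.coe_rTensorHom, map_sum, LinearMap.sum_apply]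

end Comodule

theorem exists_matrix [IsRegularRing R] (hdim : ringKrullDim R ≤ 2) (F : Finset A) :
    ∃ (d : ℕ) (a : Matrix (Fin d) (Fin d) A),
      (∀ i j, Coalgebra.comul (R := R) (a i j) = ∑ l, a i l ⊗ₜ[R] a l j) ∧
      (∀ i j, Coalgebra.counit (R := R) (a i j) = if i = j then 1 else 0) ∧
      ∃ u : A, u * a.det = 1 ∧
        (↑F : Set A) ⊆ Algebra.adjoin R (Set.range (fun p : Fin d × Fin d => a p.1 p.2) ∪ {u}) := by
  classical
  obtain ⟨W, hWfin, hFW, ρ, hρ⟩ := exists_subcomodule (R := R) F
  haveI : Module.Projective R (Module.Dual R W) := projective_dual R hdim W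
  haveI : Module.Finite R (Module.Dual R W) := by
    obtain ⟨k, π, hπ⟩ := Module.Finite.exists_fin' R W
    exact Module.Finite.of_injective π.dualMap (LinearMap.dualMap_injective_of_surjective hπ)
  obtain ⟨d, f, hf⟩ := Module.Finite.exists_fin' R (Module.Dual R W)
  obtain ⟨s, hs⟩ := Module.projective_lifting_property f LinearMap.id hf
  let ℓ : Fin d → Module.Dual R W := fun i => f (Pi.single i 1)
  let c : Fin d → Module.Dual R (Module.Dual R W) := fun i => LinearMap.proj i ∘ₗ s
  have hc : ∀ v, ∑ i, c i v • ℓ i = v := fun v => by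
    have h := LinearMap.congr_fun hs v
    rw [LinearMap.comp_apply, LinearMap.id_apply, pi_eq_sum_univ' (s v), map_sum] at h
    simpa [ℓ, c] using h
  let π : Fin d → Fin d → R := fun m k => c m (ℓ k)
  have hT : ∀ j, ∃ n : Fin d → A, ∀ w, coef ρ (ℓ j) w = ∑ i, ℓ i w • n i := fun j =>
    exists_expansion (R := R) (N := A) ℓ c hc _
  choose x' hx' using hT
  let x : Fin d → Fin d → A := fun m j => ∑ k, π m k • x' j k
  have hππ : ∀ m j, ∑ k, π m k * π k j = π m j := fun m j => by
    calc ∑ k, π m k * π k j = c m (∑ k, c k (ℓ j) • ℓ k) := by simp [π, mul_comm]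
      _ = π m j := by rw [hc]
  have hπx : ∀ m j, ∑ k, π m k • x k j = x m j := fun m j => by
    simp only [x, Finset.smul_sum, smul_smul]
    rw [Finset.sum_comm]
    refine Finset.sum_congr rfl fun i _ => ?_
    rw [← Finset.sum_smul, hππ]
  have hx : ∀ j w, coef ρ (ℓ j) w = ∑ i, ℓ i w • x i j := fun j w => by
    simp only [x, hx' j w, Finset.smul_sum, smul_smul]
    rw [Finset.sum_comm]
    refine Finset.sum_congr rfl fun i _ => ?_
    rw [← Finset.sum_smul]
    congr 1
    conv_lhs => rw [← hc (ℓ i)]
    simp [π, LinearMap.sum_apply, mul_comm]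
  have hxπ : ∀ m j, ∑ k, π k j • x m k = x m j := fun m j => by
    have h0 : ∀ w, ∑ i, ℓ i w • ((∑ k, π k j • x i k) - x i j) = 0 := fun w => by
      have hlin : ∑ k, π k j • coef ρ (ℓ k) w = coef ρ (ℓ j) w := by
        conv_rhs => rw [← hc (ℓ j), coef_sum]
      simp only [smul_sub, Finset.sum_sub_distrib, Finset.smul_sum, smul_comm (ℓ _ w)]
      rw [Finset.sum_comm]
      simp only [← Finset.smul_sum, ← hx, hlin, sub_self]
    have := sum_eq_zero (R := R) (N := A) ℓ h0 (c m)
    simp only [smul_sub, Finset.sum_sub_distrib, sub_eq_zero] at this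
    change ∑ i, π m i • (∑ k, π k j • x i k) = ∑ i, π m i • x i j at this
    simp only [Finset.smul_sum, smul_comm (π m _)] at this
    rw [Finset.sum_comm] at this
    simpa only [← Finset.smul_sum, hπx] using this
  have hΔ : ∀ m j, Coalgebra.comul (R := R) (x m j) = ∑ i, x i j ⊗ₜ[R] x m i := fun m j => by
    have hr : ∀ z : W ⊗[R] A, (coef ρ (ℓ j)).rTensor A z =
        ∑ i, x i j ⊗ₜ[R] TensorProduct.lid R A ((ℓ i).rTensor A z) := by
      intro z
      induction z using TensorProduct.induction_on with
      | zero => simp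
      | tmul v a => simp [hx, sum_tmul, TensorProduct.smul_tmul]
      | add a b ha hb => simp only [map_add, ha, hb, tmul_add, Finset.sum_add_distrib]
    have h0 : ∀ w, ∑ k, ℓ k w •
        (Coalgebra.comul (R := R) (x k j) - ∑ i, x i j ⊗ₜ[R] x k i) = 0 := fun w => by
      simp only [smul_sub, Finset.sum_sub_distrib, Finset.smul_sum, ← tmul_smul]
      rw [Finset.sum_comm]
      simp only [← tmul_sum, ← map_smul, ← map_sum, ← hx, comul_coef ρ hρ, hr]
      exact sub_eq_zero.2 rfl
    have := sum_eq_zero (R := R) (N := A ⊗[R] A) ℓ h0 (c m)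
    simp only [smul_sub, Finset.sum_sub_distrib, sub_eq_zero] at this
    change ∑ k, π m k • _ = ∑ k, π m k • _ at this
    simp only [← map_smul, ← map_sum, hπx, Finset.smul_sum, ← tmul_smul] at this
    rw [this, Finset.sum_comm]
    simp only [← tmul_sum, hπx]
  have hε : ∀ m j, Coalgebra.counit (R := R) (x m j) = π m j := fun m j => by
    have h0 : ∀ w, ∑ k, ℓ k w • (Coalgebra.counit (R := R) (x k j) - if k = j then 1 else 0) = 0 :=
      fun w => by
        simp only [smul_sub, Finset.sum_sub_distrib, ← map_smul, ← map_sum, ← hx,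
          counit_coef ρ hρ]
        simp
    have := sum_eq_zero (R := R) (N := R) ℓ h0 (c m)
    simp only [smul_sub, Finset.sum_sub_distrib, sub_eq_zero] at this
    change ∑ k, π m k • _ = ∑ k, π m k • _ at this
    rw [← hπx m j, map_sum]
    simpa only [map_smul, smul_eq_mul, mul_ite, mul_one, mul_zero,
      Finset.sum_ite_eq', Finset.mem_univ, if_true] using this
  let q : Fin d → Fin d → R := fun i j => (if i = j then 1 else 0) - π j i
  let M : Matrix (Fin d) (Fin d) A := Matrix.of fun i j => x j i + q i j • (1 : A)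
  have hqa : ∀ i j, ∑ l, q i l • x j l = 0 := fun i j => by
    simp [q, sub_smul, ite_smul, hxπ]
  have haq : ∀ i j, ∑ l, q l j • x l i = 0 := fun i j => by
    simp [q, sub_smul, ite_smul, hπx]
  have hqq : ∀ i j, ∑ l, q i l * q l j = q i j := fun i j => by
    have := hππ j i
    simp only [q, sub_mul, mul_sub, Finset.sum_sub_distrib, ite_mul, mul_ite, one_mul, mul_one, zero_mul,
      mul_zero, Finset.sum_ite_eq, Finset.sum_ite_eq', Finset.mem_univ, if_true]
    rw [Finset.sum_congr rfl (fun l _ => mul_comm (π l i) (π j l)), this]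
    ring
  have h1 : ∀ i j, Coalgebra.comul (R := R) (M i j) = ∑ l, M i l ⊗ₜ[R] M l j := fun i j => by
    have e : ∀ l, M i l ⊗ₜ[R] M l j = x l i ⊗ₜ[R] x j l + (q l j • x l i) ⊗ₜ[R] (1 : A) +
        ((1 : A) ⊗ₜ[R] (q i l • x j l) + (q i l * q l j) • ((1 : A) ⊗ₜ[R] (1 : A))) := fun l => by
      simp only [M, Matrix.of_apply, add_tmul, tmul_add, TensorProduct.smul_tmul',
        TensorProduct.tmul_smul, smul_smul, smul_add, mul_comm (q i l)]
      abel
    simp only [e, Finset.sum_add_distrib, ← sum_tmul, ← tmul_sum, ← Finset.sum_smul, hqa, haq, hqq,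
      tmul_zero, zero_tmul, add_zero, zero_add]
    simp [M, hΔ, Algebra.TensorProduct.one_def]
  have h2 : ∀ i j, Coalgebra.counit (R := R) (M i j) = if i = j then 1 else 0 := fun i j => by
    simp [M, hε, q]
  refine ⟨d, M, h1, h2, (M.map (HopfAlgebra.antipode R)).det, ?_, ?_⟩
  · rw [← Matrix.det_mul]
    convert Matrix.det_one (n := Fin d) (R := A)
    ext i j
    have := HopfAlgebra.mul_antipode_rTensor_comul_apply (R := R) (M i j)
    rw [h1, h2, map_sum, map_sum] at this
    simpa [Matrix.mul_apply, Matrix.one_apply, apply_ite (algebraMap R A)] using this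
  · intro f hf
    set S := Algebra.adjoin R (Set.range (fun p : Fin d × Fin d => M p.1 p.2) ∪
      {(M.map (HopfAlgebra.antipode R)).det})
    have hxS : ∀ i j, x i j ∈ S := fun i j => by
      have hM : M j i ∈ S := Algebra.subset_adjoin (Or.inl ⟨(j, i), rfl⟩)
      have : x i j = M j i - q j i • (1 : A) := by simp [M]
      rw [this]
      exact S.sub_mem hM (S.smul_mem S.one_mem _)
    have hfe : coef ρ (Coalgebra.counit ∘ₗ W.subtype) ⟨f, hFW hf⟩ = f := coef_counit ρ hρ _
    rw [← hc (Coalgebra.counit ∘ₗ W.subtype)] at hfe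
    rw [coef_sum] at hfe
    rw [← hfe]
    simp only [hx]
    exact S.sum_mem fun i _ => S.smul_mem (S.sum_mem fun k _ => S.smul_mem (hxS k i) _) _

end GrothLib.HopfUnion4
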